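import Mathlib

set_option autoImplicit false

namespace Cfsg.Agent.Lib.Helper33.MG

universe u

theorem T3_threeCycle {Om : Type u} [Fintype Om] [DecidableEq Om] (k g : Equiv.Perm Om) (a : Om) (ha : k a ≠ a)
    (hg : ∀ x, k x ≠ x → x ≠ a → g x = x) (hga : k (g a) = g a) :
    (k⁻¹ * (g * k * g⁻¹)).IsThreeCycle := by
  obtain ⟨b, hb⟩ : ∃ b, b = g a := ⟨_, rfl⟩
  obtain ⟨c, hc⟩ : ∃ c, c = k⁻¹ a := ⟨_, rfl⟩
  rw [← hb] at hga
  have hkc : k c = a := by simp [hc]
  have hab : a ≠ b := by
    intro h
    apply ha
    rw [← h] at hga
    exact hga
  have hac : a ≠ c := by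
    intro h
    apply ha
    rw [← h] at hkc
    exact hkc
  have hbc : b ≠ c := by
    intro h
    rw [← h] at hkc
    exact hab (hkc.symm.trans hga)
  have hgc : g c = c := hg c (by rw [hkc]; exact hac) (Ne.symm hac)
  have key0 : g * k = k * (Equiv.swap a b * Equiv.swap a c) * g := by
    ext y
    simp only [Equiv.Perm.mul_apply]
    by_cases hya : y = a
    · subst hya
      rw [← hb, Equiv.swap_apply_of_ne_of_ne (Ne.symm hab) hbc, Equiv.swap_apply_right]
      exact hg (k y) (fun h => ha (k.injective h)) ha
    · by_cases hky : k y = y
      · rw [hky]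
        have hzb : g y ≠ b := by
          intro h
          rw [hb] at h
          exact hya (g.injective h)
        by_cases hza : g y = a
        · rw [hza, Equiv.swap_apply_left, Equiv.swap_apply_of_ne_of_ne (Ne.symm hac) (Ne.symm hbc), hkc]
        · have hzc : g y ≠ c := by
            intro h
            rw [← hgc] at h
            have := g.injective h
            rw [this, hkc] at hky
            exact hac hky
          rw [Equiv.swap_apply_of_ne_of_ne hza hzc, Equiv.swap_apply_of_ne_of_ne hza hzb]
          by_contra hk
          have h1 := hg (g y) (fun h => hk h.symm) hza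
          have h2 := g.injective h1
          rw [h2] at hk
          exact hk hky.symm
      · rw [hg y hky hya]
        by_cases hyc : y = c
        · subst hyc
          rw [Equiv.swap_apply_right, Equiv.swap_apply_left, hga, hkc, hb]
        · have hyb : y ≠ b := by
            intro h
            rw [h] at hky
            exact hky hga
          rw [Equiv.swap_apply_of_ne_of_ne hya hyc, Equiv.swap_apply_of_ne_of_ne hya hyb]
          refine hg (k y) (fun h => hky (k.injective h)) ?_
          intro h
          apply hyc
          rw [hc, ← h]
          simp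
  have key : k⁻¹ * (g * k * g⁻¹) = Equiv.swap a b * Equiv.swap a c := by
    rw [key0]
    group
  rw [key]
  exact Equiv.Perm.isThreeCycle_swap_mul_swap_same hab hac hbc

end Cfsg.Agent.Lib.Helper33.MG
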